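import Cfsg.Agent.Lib.Th55.Simple
import Cfsg.Prelude.Def_Sporadic

/-!
The statements on the presented Thompson group, given the covering derivation and the divisor of
the order.
-/

set_option autoImplicit false

namespace Cfsg.Agent.Lib.Th55

open Cfsg Cfsg.Spor
open Cfsg.Agent.Lib.Th23 (ThCover)

variable (Z : ThCover) (hdvd : 90745943887872000 ∣ Nat.card Th)
include Z hdvd

theorem isTh_th : Cfsg.IsTh Th := ⟨isSimpleGroup_th Z hdvd, th_card Z hdvd⟩

theorem index_map :
    ((Subgroup.closure ({Th.a, Th.b, Th.c, Th.d, Th.e, Th.s, Th.t} : Set (FreeGroup Th.Gen))).map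
      (PresentedGroup.mk (coxRelators Th.edges ∪ {r | r ∈ Th.extra}))).index = 143127000 := by
  rw [MonoidHom.map_closure]
  convert th_index Z hdvd using 3
  simp [Set.image_insert_eq, gg, PresentedGroup.of]

end Cfsg.Agent.Lib.Th55
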