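import Cfsg.Agent.Lib.Th23.Maps

/-!
Homomorphisms from the presented Thompson group: one that kills `a, b, c, d, e, s` is trivial, and
so is one into a commutative group.
-/

set_option autoImplicit false
set_option linter.unusedSimpArgs false

namespace Cfsg.Agent.Lib.Th55

open Cfsg Cfsg.Spor
open Cfsg.Agent.Lib.Th23 (thVal RelsHold relsHold_th)

/-- the image of a generator -/
def gg (x : Th.Gen) : Th := PresentedGroup.of x

theorem rels_gg : RelsHold (List.range 39) (gg .a) (gg .b) (gg .c) (gg .d) (gg .e) (gg .s) (gg .t)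
    (gg .u) := relsHold_th _

theorem closure_gg :
    Subgroup.closure ({gg .a, gg .b, gg .c, gg .d, gg .e, gg .s, gg .t, gg .u} : Set Th) = ⊤ := by
  refine top_unique ((PresentedGroup.closure_range_of _).ge.trans ((Subgroup.closure_le _).2 ?_))
  rintro _ ⟨x, rfl⟩
  refine Subgroup.subset_closure ?_
  cases x <;> simp [gg]

theorem hom_eq_one_of_gens {H : Type*} [Group H] (f : Th →* H) (h : ∀ x, f (gg x) = 1) : f = 1 :=
  PresentedGroup.ext fun x => by simpa [gg] using h x

/-- killing the first six generators kills everything -/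
theorem hom_eq_one_of_six {H : Type*} [Group H] (f : Th →* H) (ha : f (gg .a) = 1)
    (hb : f (gg .b) = 1) (hc : f (gg .c) = 1) (hd : f (gg .d) = 1) (he : f (gg .e) = 1)
    (hs : f (gg .s) = 1) : f = 1 := by
  have h := rels_gg.map f
  have e27 := h 27 (by simp) _ rfl
  have e36 := h 36 (by simp) _ rfl
  have e20 := h 20 (by simp) _ rfl
  have e34 := h 34 (by simp) _ rfl
  simp only [map_mul, map_inv, map_pow, FreeGroup.lift_apply_of, thVal, ha, hc, hs, one_mul,
    mul_one, inv_one, one_pow, inv_inv] at e27 e36 e20 e34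
  have hu : f (gg .u) = 1 := by
    have e3 : f (gg .u) ^ 3 = 1 := inv_eq_one.1 e36
    have : f (gg .u) ^ 3 = f (gg .u) ^ 2 * f (gg .u) := pow_succ _ 2
    rw [e3, e27, one_mul] at this
    exact this.symm
  simp only [hu, inv_one, one_mul, mul_one] at e34
  have ht : f (gg .t) = 1 := by
    have : f (gg .t) ^ 3 = f (gg .t) * f (gg .t) * f (gg .t) := by simp [pow_succ]
    rw [e20, e34, one_mul] at this
    exact this.symm
  refine hom_eq_one_of_gens f fun x => ?_
  cases x <;> assumption

/-- the group is perfect: no map onto a non-trivial commutative group -/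
theorem hom_comm_eq_one {A : Type*} [CommGroup A] (f : Th →* A) : f = 1 := by
  have h := rels_gg.map f
  have g : ∀ i < 39, ∀ r, Th.extra[i]? = some r → FreeGroup.lift (thVal (f (gg .a)) (f (gg .b))
      (f (gg .c)) (f (gg .d)) (f (gg .e)) (f (gg .s)) (f (gg .t)) (f (gg .u))) r = 1 :=
    fun i hi => h i (List.mem_range.2 hi)
  have e0 := g 0 (by decide) _ rfl
  have e1 := g 1 (by decide) _ rfl
  have e2 := g 2 (by decide) _ rfl
  have e3 := g 3 (by decide) _ rfl
  have e4 := g 4 (by decide) _ rfl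
  have e5 := g 5 (by decide) _ rfl
  have e7 := g 7 (by decide) _ rfl
  have e10 := g 10 (by decide) _ rfl
  have e12 := g 12 (by decide) _ rfl
  have e14 := g 14 (by decide) _ rfl
  have e18 := g 18 (by decide) _ rfl
  have e19 := g 19 (by decide) _ rfl
  simp only [map_mul, map_inv, map_pow, FreeGroup.lift_apply_of, thVal]
    at e0 e1 e2 e3 e4 e5 e7 e10 e12 e14 e18 e19
  have cube : ∀ x : A, x ^ 2 = 1 → x ^ 3 = x := fun x hx => by rw [pow_succ, hx, one_mul]
  have eqv : ∀ x y : A, x ^ 2 = 1 → y ^ 2 = 1 → (x * y) ^ 3 = 1 → x = y := fun x y hx hy hxy => by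
    rw [mul_pow, cube x hx, cube y hy, mul_eq_one_iff_eq_inv] at hxy
    rw [hxy, inv_eq_iff_mul_eq_one, ← pow_two, hy]
  have ha : f (gg .a) = 1 := by
    rw [mul_pow, show (4 : ℕ) = 2 * 2 from rfl, pow_mul, pow_mul, e2, e3] at e10
    simpa using e10
  have hb : f (gg .b) = 1 := (eqv _ _ e0 e1 e5).symm.trans ha
  have hc : f (gg .c) = 1 := (eqv _ _ e1 e2 e7).symm.trans hb
  have he : f (gg .e) = 1 := by
    have c1 : ∀ x y : A, x⁻¹ * y⁻¹ * x * y = 1 := fun x y => by
      rw [mul_assoc x⁻¹, mul_comm y⁻¹ x, ← mul_assoc, inv_mul_cancel, one_mul, inv_mul_cancel]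
    have c2 : ∀ x y : A, y⁻¹ * x * y = x := fun x y => by
      rw [mul_comm y⁻¹ x, inv_mul_cancel_right]
    rw [c1, c2, one_mul] at e19
    exact inv_eq_one.1 e19
  have hd : f (gg .d) = 1 := (eqv _ _ e3 e4 e12).trans he
  have hs : f (gg .s) = 1 := by
    rw [hd, mul_one] at e18
    calc f (gg .s) = f (gg .s) ^ 7 * ((f (gg .s) ^ 2) ^ 3)⁻¹ := by
          rw [← pow_mul, pow_succ' _ 6, mul_inv_cancel_right]
      _ = 1 := by rw [e14, e18]; simp
  exact hom_eq_one_of_six f ha hb hc hd he hs

end Cfsg.Agent.Lib.Th55
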