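import Cfsg.Agent.Lib.Th23.Upper
import Cfsg.Agent.Lib.Th55.Trivial

/-!
Order and index of the presented Thompson group from a covering derivation and a divisor of the
order: the eleven double cosets are then distinct and every stabiliser bound is exact.
-/

set_option autoImplicit false
set_option linter.unusedSimpArgs false

namespace Cfsg.Agent.Lib.Th55

open Cfsg Cfsg.Spor
open Cfsg.Agent.Lib.ThK83 (Kbar rep)
open Cfsg.Agent.Lib.Th23 (RelsHold ThCover upperIdx kM thStab)

theorem rels_upper : RelsHold upperIdx (gg .a) (gg .b) (gg .c) (gg .d) (gg .e) (gg .s) (gg .t)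
    (gg .u) :=
  rels_gg.mono fun i hi => List.mem_range.2 (lt_trans (List.mem_range.1 hi) (by decide))

/-- `Kbar` onto `⟨a, ..., t⟩` -/
noncomputable def thPhi : Kbar →* Th :=
  Classical.choose (Th23.exists_kMaps (Th23.kRel_of_rels rels_upper fun i hi =>
    List.mem_range.2 (lt_trans hi (by decide))))

theorem thMaps : Th23.KMaps thPhi (gg .a) (gg .b) (gg .c) (gg .d) (gg .e) (gg .s) (gg .t) :=
  Classical.choose_spec (Th23.exists_kMaps (Th23.kRel_of_rels rels_upper fun i hi =>
    List.mem_range.2 (lt_trans hi (by decide))))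

variable (Z : ThCover)

/-- the context of the derivation in the presented group -/
noncomputable def thCtx : Th23.Ctx kM Z.R.D Th :=
  Th23.ctxOf Z.R thMaps rels_upper Th23.dcIdx_sub (Th23.seventh_of_rels thMaps rels_upper)

theorem thCtx_N : (thCtx Z).N = Z.R.N := rfl

theorem thCtx_phi : (thCtx Z).φ = thPhi := rfl

theorem thCtx_gen :
    Subgroup.closure (((thCtx Z).φ.range : Set Th) ∪ {(thCtx Z).u}) = ⊤ :=
  Th23.gen_top thMaps closure_gg

theorem th_covered : (thCtx Z).Covered 11 := Z.covered _ (thCtx_N Z) (thCtx_gen Z)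

include Z in
theorem th_finite : Finite Th := (Z.card_le (thCtx Z) (thCtx_N Z) (thCtx_gen Z)).1

include Z in
theorem th_card_le : Nat.card Th ≤ 90745943887872000 :=
  (Z.card_le (thCtx Z) (thCtx_N Z) (thCtx_gen Z)).2

variable (hdvd : 90745943887872000 ∣ Nat.card Th)
include Z hdvd

theorem th_card : Nat.card Th = 90745943887872000 := by
  have := th_finite Z
  exact le_antisymm (th_card_le Z) (Nat.le_of_dvd Nat.card_pos hdvd)

theorem card_range_index :
    thPhi.range.index = 143127000 ∧ Nat.card thPhi.range = 634023936 := by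
  have hi : thPhi.range.index ≤ 143127000 := (Z.index_le (thCtx Z) (thCtx_N Z) (thCtx_gen Z)).2
  have hK : Nat.card thPhi.range ≤ 634023936 := by
    have : Finite Kbar := Nat.finite_of_card_ne_zero (by rw [ThK83.card_Kbar]; norm_num)
    rw [← ThK83.card_Kbar]
    exact Nat.card_le_card_of_surjective _ thPhi.rangeRestrict_surjective
  have e := thPhi.range.index_mul_card
  rw [th_card Z hdvd] at e
  constructor
  · refine le_antisymm hi (Nat.le_of_mul_le_mul_right ?_ (show 0 < 634023936 by norm_num))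
    calc 143127000 * 634023936 = thPhi.range.index * Nat.card thPhi.range := by rw [e]
      _ ≤ thPhi.range.index * 634023936 := Nat.mul_le_mul_left _ hK
  · refine le_antisymm hK (Nat.le_of_mul_le_mul_left ?_ (show 0 < 143127000 by norm_num))
    calc 143127000 * 634023936 = thPhi.range.index * Nat.card thPhi.range := by rw [e]
      _ ≤ 143127000 * Nat.card thPhi.range := Nat.mul_le_mul_right _ hi

theorem thPhi_injective : Function.Injective thPhi := by
  have : Finite Kbar := Nat.finite_of_card_ne_zero (by rw [ThK83.card_Kbar]; norm_num)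
  refine MonoidHom.rangeRestrict_injective_iff.1
    (thPhi.rangeRestrict_surjective.bijective_of_nat_card_le ?_).1
  rw [ThK83.card_Kbar, (card_range_index Z hdvd).2]

/-- the index of `⟨a, ..., t⟩` -/
theorem th_index :
    (Subgroup.closure ({gg .a, gg .b, gg .c, gg .d, gg .e, gg .s, gg .t} : Set Th)).index =
      143127000 := by
  rw [← thMaps.range_eq]
  exact (card_range_index Z hdvd).1

/-- the length of a double coset in cosets -/
def thLen (j : ℕ) : ℕ := 634023936 / thStab.getD j 0

/-- the cosets as pairs of a double coset and a coset of its stabiliser -/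
theorem cosets_bijective :
    ∃ f : (Σ j : Fin 11, Kbar ⧸ (thCtx Z).S j) → Th ⧸ thPhi.range,
      (∀ x, f x = QuotientGroup.mk (thPhi x.2.out * ((thCtx Z).W x.1)⁻¹)) ∧
      Function.Bijective f ∧
      ∀ j : Fin 11, Nat.card (Kbar ⧸ (thCtx Z).S j) = thLen j := by
  have : Finite Kbar := Nat.finite_of_card_ne_zero (by rw [ThK83.card_Kbar]; norm_num)
  have := th_finite Z
  let f : (Σ j : Fin 11, Kbar ⧸ (thCtx Z).S j) → Th ⧸ thPhi.range := fun x =>
    QuotientGroup.mk (thPhi x.2.out * ((thCtx Z).W x.1)⁻¹)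
  have hf : Function.Surjective f := by
    intro q
    induction q using QuotientGroup.induction_on with
    | _ g =>
      obtain ⟨j, hj, h, k, rfl⟩ := (th_covered Z).cover_left g
      refine ⟨⟨⟨j, hj⟩, QuotientGroup.mk h⟩, ?_⟩
      obtain ⟨s, hs⟩ := QuotientGroup.mk_out_eq_mul ((thCtx Z).S j) h
      refine QuotientGroup.eq.2 ?_
      show (thPhi (QuotientGroup.mk h : Kbar ⧸ (thCtx Z).S j).out * ((thCtx Z).W j)⁻¹)⁻¹ *
        (thPhi h * ((thCtx Z).W j)⁻¹ * thPhi k) ∈ thPhi.range
      obtain ⟨r, hr⟩ := (s⁻¹).2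
      rw [thCtx_phi] at hr
      have e : thPhi (s⁻¹ : (thCtx Z).S j).1 = ((thCtx Z).W j)⁻¹ * (thPhi r * (thCtx Z).W j) := by
        rw [hr]; group
      refine ⟨r * k, ?_⟩
      rw [hs]
      simp only [map_mul]
      rw [Subgroup.coe_inv, map_inv, inv_eq_iff_eq_inv] at e
      rw [e]; simp [mul_assoc]
  have hle : ∀ j : Fin 11, Nat.card (Kbar ⧸ (thCtx Z).S j) ≤ thLen j := fun j => by
    rw [thLen, Nat.le_div_iff_mul_le (Z.stab_pos_le _ (thCtx_N Z) j j.2).1, ← ThK83.card_Kbar,
      Subgroup.card_eq_card_quotient_mul_card_subgroup ((thCtx Z).S j)]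
    exact Nat.mul_le_mul_left _ (Z.stab_pos_le _ (thCtx_N Z) j j.2).2
  have hsum : ∑ j : Fin 11, thLen j = 143127000 := by decide +kernel
  have hge : 143127000 ≤ ∑ j : Fin 11, Nat.card (Kbar ⧸ (thCtx Z).S j) := by
    rw [← Nat.card_sigma, ← (card_range_index Z hdvd).1]
    exact Nat.card_le_card_of_surjective f hf
  have heq : ∀ j : Fin 11, Nat.card (Kbar ⧸ (thCtx Z).S j) = thLen j := fun j =>
    (Finset.sum_eq_sum_iff_of_le fun i _ => hle i).1
      (le_antisymm (Finset.sum_le_sum fun i _ => hle i) (hsum.le.trans hge)) j (Finset.mem_univ j)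
  refine ⟨f, fun x => rfl, hf.bijective_of_nat_card_le ?_, heq⟩
  rw [Nat.card_sigma, Finset.sum_congr rfl fun j _ => heq j, hsum]
  exact (card_range_index Z hdvd).1.ge

/-- every stabiliser bound is attained -/
theorem card_stab (j : ℕ) (hj : j < 11) : Nat.card ((thCtx Z).S j) = thStab.getD j 0 := by
  obtain ⟨-, -, -, heq⟩ := cosets_bijective Z hdvd
  have e := Subgroup.card_eq_card_quotient_mul_card_subgroup ((thCtx Z).S j)
  rw [heq ⟨j, hj⟩, ThK83.card_Kbar] at e
  have hm : thLen j * thStab.getD j 0 = 634023936 :=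
    (show ∀ i < 11, thLen i * thStab.getD i 0 = 634023936 by decide +kernel) j hj
  exact Nat.eq_of_mul_eq_mul_left ((show ∀ i < 11, 0 < thLen i by decide +kernel) j hj)
    (e.symm.trans hm.symm)

end Cfsg.Agent.Lib.Th55
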