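import Cfsg.Agent.Lib.Th55.Order
import Cfsg.Agent.Lib.ThK83.Simple

/-!
Simplicity of the presented Thompson group: a normal subgroup meeting `⟨a, ..., t⟩` trivially is a
union of double cosets of eleven lengths, so trivial or a complement, and a complement is excluded
by perfectness.
-/

set_option autoImplicit false
set_option linter.unusedSimpArgs false

namespace Cfsg.Agent.Lib.Th55

open Cfsg Cfsg.Spor
open Cfsg.Agent.Lib.ThK83 (Kbar rep Kzero)
open Cfsg.Agent.Lib.Th23 (ThCover)

/-- the only subsets of the double cosets with a size dividing the index -/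
theorem len_sum_cases : ∀ T : Finset (Fin 11), 0 ∈ T → (∑ j ∈ T, thLen j) ∣ 143127000 →
    T = {0} ∨ T = Finset.univ := by
  decide +kernel

theorem six_mem_Kzero : ∀ l < 6, rep.f l ∈ Kzero := by
  intro l hl
  refine Subgroup.subset_closure ?_
  interval_cases l <;> simp

variable (Z : ThCover) (hdvd : 90745943887872000 ∣ Nat.card Th)
include Z hdvd

theorem eq_bot_of_disjoint (N : Subgroup Th) [N.Normal] (hN : N ⊓ thPhi.range = ⊥) : N = ⊥ := by
  classical
  have := th_finite Z
  have hKfin : Finite Kbar := Nat.finite_of_card_ne_zero (by rw [ThK83.card_Kbar]; norm_num)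
  obtain ⟨f, hf, hbij, heq⟩ := cosets_bijective Z hdvd
  have hdis : ∀ {g : Th}, g ∈ N → g ∈ thPhi.range → g = 1 := fun h1 h2 =>
    Subgroup.mem_bot.1 (hN ▸ Subgroup.mem_inf.2 ⟨h1, h2⟩)
  let ι : N → Th ⧸ thPhi.range := fun n => ((n : Th) : Th ⧸ thPhi.range)
  have hinj : Function.Injective ι := fun a b h => Subtype.ext
    (inv_mul_eq_one.1 (hdis (N.mul_mem (N.inv_mem a.2) b.2) (QuotientGroup.eq.1 h)))
  have hinv : ∀ (k : Kbar) (g : Th), (QuotientGroup.mk g : Th ⧸ thPhi.range) ∈ Set.range ι →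
      (QuotientGroup.mk (thPhi k * g) : Th ⧸ thPhi.range) ∈ Set.range ι := by
    rintro k g ⟨n, hn⟩
    refine ⟨⟨thPhi k * n * (thPhi k)⁻¹, Subgroup.Normal.conj_mem ‹_› _ n.2 _⟩, ?_⟩
    show ((thPhi k * n * (thPhi k)⁻¹ : Th) : Th ⧸ thPhi.range) = _
    refine QuotientGroup.eq.2 ?_
    have h1 := QuotientGroup.eq.1 hn
    have : (thPhi k * n * (thPhi k)⁻¹)⁻¹ * (thPhi k * g) = thPhi k * ((n : Th)⁻¹ * g) := by group
    rw [this]
    exact mul_mem ⟨k, rfl⟩ h1
  set T : Finset (Fin 11) := Finset.univ.filter fun j =>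
    (QuotientGroup.mk (((thCtx Z).W j)⁻¹) : Th ⧸ thPhi.range) ∈ Set.range ι
  have key : ∀ x, x.1 ∈ T ↔ f x ∈ Set.range ι := by
    intro x
    rw [hf]
    simp only [T, Finset.mem_filter, Finset.mem_univ, true_and]
    refine ⟨fun h => hinv _ _ h, fun h => ?_⟩
    have := hinv x.2.out⁻¹ _ h
    rwa [map_inv, inv_mul_cancel_left] at this
  have hcard : Nat.card N = ∑ j ∈ T, thLen j := by
    rw [← Nat.card_range_of_injective hinj,
      ← Nat.card_congr ((Equiv.ofBijective f hbij).subtypeEquiv key),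
      Nat.card_congr (Equiv.subtypeSigmaEquiv (fun j : Fin 11 => Kbar ⧸ (thCtx Z).S j) (· ∈ T)),
      Nat.card_sigma, Finset.sum_congr rfl fun (j : {j // j ∈ T}) _ => heq j.1]
    exact Finset.sum_coe_sort T fun j => thLen j
  have h0 : (0 : Fin 11) ∈ T := by
    simp only [T, Finset.mem_filter, Finset.mem_univ, true_and]
    exact ⟨1, by simp [ι, Th23.Ctx.W_zero]⟩
  let π : Kbar →* Th ⧸ N := (QuotientGroup.mk' N).comp thPhi
  have hπ : Function.Injective π := by
    rw [← MonoidHom.ker_eq_bot_iff, Subgroup.eq_bot_iff_forall]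
    intro k hk
    rw [MonoidHom.mem_ker, MonoidHom.comp_apply, QuotientGroup.mk'_apply,
      QuotientGroup.eq_one_iff] at hk
    exact thPhi_injective Z hdvd ((hdis hk ⟨k, rfl⟩).trans (map_one thPhi).symm)
  have hGN : Nat.card (Th ⧸ N) * Nat.card N = 143127000 * 634023936 := by
    rw [← Subgroup.card_eq_card_quotient_mul_card_subgroup, th_card Z hdvd]
  have hK : 634023936 ∣ Nat.card (Th ⧸ N) := by
    rw [← ThK83.card_Kbar]
    exact Subgroup.card_dvd_of_injective π hπ
  have hdiv : (∑ j ∈ T, thLen j) ∣ 143127000 := by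
    rw [← hcard]
    obtain ⟨m, hm⟩ := hK
    rw [hm] at hGN
    exact ⟨m, (Nat.eq_of_mul_eq_mul_left (show 0 < 634023936 by norm_num)
      (by linarith [hGN])).symm.trans (mul_comm _ _)⟩
  rcases len_sum_cases T h0 hdiv with hT | hT
  · refine Subgroup.card_eq_one.1 ?_
    rw [hcard, hT, Finset.sum_singleton]
    decide +kernel
  exfalso
  have hN : Nat.card N = 143127000 := by
    rw [hcard, hT]
    decide +kernel
  have hq : Nat.card (Th ⧸ N) = 634023936 := by
    rw [hN, mul_comm 143127000] at hGN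
    exact Nat.eq_of_mul_eq_mul_right (by norm_num) hGN
  have hπ2 : Function.Bijective π := by
    have : Finite (Th ⧸ N) := inferInstance
    rw [Nat.bijective_iff_injective_and_card]
    exact ⟨hπ, by rw [hq, ThK83.card_Kbar]⟩
  let σ : Th →* Multiplicative (ZMod 3) :=
    ThK83.sign3.comp ((MulEquiv.ofBijective π hπ2).symm.toMonoidHom.comp (QuotientGroup.mk' N))
  have e : σ (thPhi (rep.f 7)) = ThK83.sign3 (rep.f 7) := by
    show ThK83.sign3 ((MulEquiv.ofBijective π hπ2).symm (π (rep.f 7))) = _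
    rw [show π (rep.f 7) = MulEquiv.ofBijective π hπ2 (rep.f 7) from rfl,
      MulEquiv.symm_apply_apply]
  rw [hom_comm_eq_one σ, ThK83.sign3_t, MonoidHom.one_apply, eq_comm, ofAdd_eq_one] at e
  exact absurd e (by decide)

theorem isSimpleGroup_th : IsSimpleGroup Th := by
  have := th_finite Z
  have : Nontrivial Th := Finite.one_lt_card_iff_nontrivial.1 (by rw [th_card Z hdvd]; norm_num)
  refine ⟨fun N hN => ?_⟩
  rcases ThK83.eq_bot_or_Kzero_le (hN.comap thPhi) with h | h
  · refine Or.inl (eq_bot_of_disjoint Z hdvd N ((Subgroup.eq_bot_iff_forall _).2 ?_))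
    rintro g ⟨hg, k, rfl⟩
    have : k ∈ N.comap thPhi := hg
    rw [h, Subgroup.mem_bot] at this
    rw [this, map_one]
  · refine Or.inr ?_
    have k : ∀ l < 6, QuotientGroup.mk' N (thPhi (rep.f l)) = 1 := fun l hl =>
      (QuotientGroup.eq_one_iff _).2 (h (six_mem_Kzero l hl))
    have e := hom_eq_one_of_six (QuotientGroup.mk' N) (thMaps.ha ▸ k 0 (by decide))
      (thMaps.hb ▸ k 1 (by decide)) (thMaps.hc ▸ k 2 (by decide)) (thMaps.hd ▸ k 3 (by decide))
      (thMaps.he ▸ k 4 (by decide)) (thMaps.hs ▸ k 5 (by decide))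
    refine eq_top_iff.2 fun g _ => ?_
    exact (QuotientGroup.eq_one_iff g).1 (DFunLike.congr_fun e g)

end Cfsg.Agent.Lib.Th55
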